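import Cfsg.Agent.OddChar.Dade.Basic

/-!
# Summing over the Dade support
-/

namespace Cfsg.Agent.OddChar.Dade

open scoped ComplexConjugate

universe u

variable {G : Type u} [Group G] [Fintype G] {A : Set G} {L : Subgroup G} {H : G → Subgroup G}
  (hD : Cfsg.DadeHypothesis A L H)

/-- The elements conjugate to a member of some `a * H a`. -/
def support (A : Set G) (H : G → Subgroup G) : Set G :=
  {g | ∃ a ∈ A, ∃ u ∈ H a, ∃ x : G, x * g * x⁻¹ = a * u}

open Classical in
/-- Pairs `(a, u)` with `a ∈ A` and `u ∈ H a`. -/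
noncomputable def pairs (A : Set G) (H : G → Subgroup G) : Finset (G × G) :=
  Finset.univ.filter fun p => p.1 ∈ A ∧ p.2 ∈ H p.1

theorem mem_pairs {p : G × G} : p ∈ pairs A H ↔ p.1 ∈ A ∧ p.2 ∈ H p.1 := by
  classical
  simp [pairs]

open Classical in
include hD in
/-- The master counting identity: each element of the support is hit `card L` times, weighted. -/
theorem sum_fibre (g : G) :
    ∑ p ∈ pairs A H, ∑ x : G,
        (if x * g * x⁻¹ = p.1 * p.2 then (Nat.card (H p.1) : ℂ)⁻¹ else 0) =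
      if g ∈ support A H then (Nat.card L : ℂ) else 0 := by
  split_ifs with hg
  · obtain ⟨a, ha, u, hu, x₀, hx₀⟩ := hg
    rw [← Finset.sum_product' (pairs A H) Finset.univ
      (fun p x => if x * g * x⁻¹ = p.1 * p.2 then (Nat.card (H p.1) : ℂ)⁻¹ else 0),
      ← Finset.sum_filter]
    have hw : ∀ q ∈ ((pairs A H ×ˢ (Finset.univ : Finset G)).filter
        fun q => q.2 * g * q.2⁻¹ = q.1.1 * q.1.2),
        (Nat.card (H q.1.1) : ℂ)⁻¹ = (Nat.card (H a) : ℂ)⁻¹ := by
      intro q hq
      simp only [Finset.mem_filter, Finset.mem_product, mem_pairs, Finset.mem_univ, and_true] at hq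
      have hc : q.2 * x₀⁻¹ * (a * u) * (q.2 * x₀⁻¹)⁻¹ = q.1.1 * q.1.2 := by
        rw [← hx₀, ← hq.2]; group
      have := (conj_eq hD ha hq.1.1 hu hq.1.2 hc).1
      rw [← this, card_H_conj hD ha (by rw [this]; exact hq.1.1)]
    rw [Finset.sum_congr rfl hw, Finset.sum_const, nsmul_eq_mul]
    have hcard : ((pairs A H ×ˢ (Finset.univ : Finset G)).filter
        fun q => q.2 * g * q.2⁻¹ = q.1.1 * q.1.2).card = Nat.card L * Nat.card (H a) := by
      rw [← card_conjugators hD ha, Nat.card_eq_fintype_card, Fintype.card_subtype]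
      refine Finset.card_bij (fun q _ => q.2 * x₀⁻¹) ?_ ?_ ?_
      · intro q hq
        simp only [Finset.mem_filter, Finset.mem_product, mem_pairs, Finset.mem_univ, and_true,
          true_and] at hq ⊢
        have hc : q.2 * x₀⁻¹ * (a * u) * (q.2 * x₀⁻¹)⁻¹ = q.1.1 * q.1.2 := by
          rw [← hx₀, ← hq.2]; group
        rw [(conj_eq hD ha hq.1.1 hu hq.1.2 hc).1]
        exact hq.1.1
      · intro q hq q' hq' he
        simp only [Finset.mem_filter, Finset.mem_product, mem_pairs, Finset.mem_univ, and_true] at hq hq'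
        have hc : ∀ r : (G × G) × G, r.2 * g * r.2⁻¹ = r.1.1 * r.1.2 →
            r.2 * x₀⁻¹ * (a * u) * (r.2 * x₀⁻¹)⁻¹ = r.1.1 * r.1.2 := fun r hr => by
          rw [← hx₀, ← hr]; group
        have h1 := conj_eq hD ha hq.1.1 hu hq.1.2 (hc q hq.2)
        have h2 := conj_eq hD ha hq'.1.1 hu hq'.1.2 (hc q' hq'.2)
        rw [he] at h1
        exact Prod.ext (Prod.ext (h1.1.symm.trans h2.1) (h1.2.symm.trans h2.2))
          (mul_right_cancel he)
      · intro y hy
        simp only [Finset.mem_filter, Finset.mem_univ, true_and] at hy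
        refine ⟨((y * a * y⁻¹, y * u * y⁻¹), y * x₀), ?_, mul_inv_cancel_right _ _⟩
        simp only [Finset.mem_filter, Finset.mem_product, mem_pairs, Finset.mem_univ, and_true]
        refine ⟨⟨hy, conj_mem_H hD ha hy hu⟩, ?_⟩
        calc y * x₀ * g * (y * x₀)⁻¹ = y * (x₀ * g * x₀⁻¹) * y⁻¹ := by group
          _ = y * (a * u) * y⁻¹ := by rw [hx₀]
          _ = y * a * y⁻¹ * (y * u * y⁻¹) := by group
    rw [hcard, Nat.cast_mul, mul_assoc, mul_inv_cancel₀ (Nat.cast_ne_zero.2 Nat.card_pos.ne'),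
      mul_one]
  · refine Finset.sum_eq_zero fun p hp => Finset.sum_eq_zero fun x _ => if_neg fun e => hg ?_
    rw [mem_pairs] at hp
    exact ⟨p.1, hp.1, p.2, hp.2, x, e⟩

open Classical in
include hD in
/-- Averaging a class function over the support. -/
theorem sum_support (F : G → ℂ) (hF : ∀ g z : G, F (z * g * z⁻¹) = F g) :
    (Nat.card G : ℂ)⁻¹ * ∑ g ∈ Finset.univ.filter (fun g => g ∈ support A H), F g =
      (Nat.card L : ℂ)⁻¹ * ∑ a ∈ Finset.univ.filter (fun a => a ∈ A),
        (Nat.card (H a) : ℂ)⁻¹ * ∑ u ∈ Finset.univ.filter (fun u => u ∈ H a), F (a * u) := by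
  have h1 : (Nat.card L : ℂ) * ∑ g ∈ Finset.univ.filter (fun g => g ∈ support A H), F g =
      (Nat.card G : ℂ) * ∑ a ∈ Finset.univ.filter (fun a => a ∈ A),
        (Nat.card (H a) : ℂ)⁻¹ * ∑ u ∈ Finset.univ.filter (fun u => u ∈ H a), F (a * u) := by
    calc (Nat.card L : ℂ) * ∑ g ∈ Finset.univ.filter (fun g => g ∈ support A H), F g
        = ∑ g : G, (∑ p ∈ pairs A H, ∑ x : G,
            (if x * g * x⁻¹ = p.1 * p.2 then (Nat.card (H p.1) : ℂ)⁻¹ else 0)) * F g := by
          rw [Finset.mul_sum, Finset.sum_filter]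
          refine Finset.sum_congr rfl fun g _ => ?_
          rw [sum_fibre hD g]
          split_ifs <;> simp
      _ = ∑ p ∈ pairs A H, ∑ x : G, ∑ g : G,
            (if x * g * x⁻¹ = p.1 * p.2 then (Nat.card (H p.1) : ℂ)⁻¹ * F g else 0) := by
          simp only [Finset.sum_mul, ite_mul, zero_mul]
          rw [Finset.sum_comm]
          exact Finset.sum_congr rfl fun p _ => Finset.sum_comm
      _ = ∑ p ∈ pairs A H, (Nat.card G : ℂ) * ((Nat.card (H p.1) : ℂ)⁻¹ * F (p.1 * p.2)) := by
          refine Finset.sum_congr rfl fun p _ => ?_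
          rw [Finset.sum_congr rfl fun x _ => ?_, Finset.sum_const, Finset.card_univ, nsmul_eq_mul,
            ← Nat.card_eq_fintype_card]
          rw [Finset.sum_eq_single (x⁻¹ * (p.1 * p.2) * x)]
          · rw [if_pos (by group), ← hF (x⁻¹ * (p.1 * p.2) * x) x]
            congr 2
            group
          · intro g _ hg
            exact if_neg fun e => hg (by rw [← e]; group)
          · simp
      _ = _ := by
          rw [← Finset.mul_sum]
          congr 1
          simp only [Finset.mul_sum]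
          rw [Finset.sum_sigma' (Finset.univ.filter fun a => a ∈ A)
            (fun a => Finset.univ.filter fun u => u ∈ H a)
            (fun a u => (Nat.card (H a) : ℂ)⁻¹ * F (a * u))]
          refine Finset.sum_bij' (fun p _ => ⟨p.1, p.2⟩) (fun s _ => (s.1, s.2)) ?_ ?_ ?_ ?_ ?_ <;>
            simp [mem_pairs]
  have hG : (Nat.card G : ℂ) ≠ 0 := Nat.cast_ne_zero.2 Nat.card_pos.ne'
  have hL : (Nat.card L : ℂ) ≠ 0 := Nat.cast_ne_zero.2 Nat.card_pos.ne'
  rw [inv_mul_eq_iff_eq_mul₀ hG, ← mul_assoc, mul_comm (Nat.card G : ℂ), mul_assoc,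
    eq_inv_mul_iff_mul_eq₀ hL]
  exact h1

omit [Fintype G] in
theorem apply_eq_zero_of_notMem {α : L → ℂ} {g : G} (h : g ∉ support A H) :
    Cfsg.dadeIsometry A L H α g = 0 :=
  apply_eq_zero fun a ha x u hu e => h ⟨a, ha, u, hu, x, e⟩

open Classical in
include hD in
/-- The Dade map against a class function. -/
theorem inner_eq [Fintype L] {α : L → ℂ} (hα : Cfsg.IsClassFunction L α)
    (hαA : ∀ x : L, (x : G) ∉ A → α x = 0) {χ : G → ℂ} (hχ : Cfsg.IsClassFunction G χ)
    {ψ : L → ℂ} (hψ : ∀ a : L, (a : G) ∈ A → ψ a = (Nat.card (H a) : ℂ)⁻¹ *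
      ∑ u ∈ Finset.univ.filter (fun u => u ∈ H a), χ ((a : G) * u)) :
    Cfsg.classInner (Cfsg.dadeIsometry A L H α) χ = Cfsg.classInner α ψ := by
  have hF : ∀ g z : G, Cfsg.dadeIsometry A L H α (z * g * z⁻¹) * conj (χ (z * g * z⁻¹)) =
      Cfsg.dadeIsometry A L H α g * conj (χ g) := fun g z => by
    rw [isClassFunction hD hα g z, hχ g z]
  rw [Characters.classInner_def, Characters.classInner_def,
    ← Finset.sum_subset (Finset.subset_univ (Finset.univ.filter fun g : G => g ∈ support A H))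
      (fun g _ hg => by
        rw [apply_eq_zero_of_notMem (fun h => hg (Finset.mem_filter.2 ⟨Finset.mem_univ g, h⟩)),
          zero_mul]),
    sum_support hD _ hF]
  congr 1
  rw [← Finset.sum_subset (Finset.subset_univ (Finset.univ.filter fun a : L => (a : G) ∈ A))
    (fun a _ ha => by
      rw [hαA a fun h => ha (Finset.mem_filter.2 ⟨Finset.mem_univ a, h⟩), zero_mul])]
  refine Finset.sum_bij' (fun a ha => (⟨a, hD.subset (Finset.mem_filter.1 ha).2⟩ : L))
    (fun a _ => (a : G)) (by simp) (by simp) (by simp) (by simp) ?_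
  intro a ha
  have haA : a ∈ A := (Finset.mem_filter.1 ha).2
  rw [hψ ⟨a, hD.subset haA⟩ haA, map_mul, map_inv₀, Complex.conj_natCast, map_sum,
    mul_left_comm (α _), Finset.mul_sum (a := α _)]
  congr 1
  refine Finset.sum_congr rfl fun u hu => ?_
  have hu' : u ∈ H a := (Finset.mem_filter.1 hu).2
  rw [apply_eq hD hα haA hu' (x := 1) (by simp)]

end Cfsg.Agent.OddChar.Dade
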