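import Cfsg.Agent.OddChar.Dade.Basic
import Cfsg.Agent.S1496

/-!
# Class functions summed over a coset of a normalised subgroup
-/

namespace Cfsg.Agent.OddChar.Dade

universe u

variable {G : Type u} [Group G] [Fintype G]

open Classical in
/-- For `n` normalising `K` of coprime order, summing over `K * n` reduces to `C_K(n) * n`. -/
theorem sum_coset (K : Subgroup G) (n : G) (hn : n ∈ Subgroup.normalizer (K : Set G))
    (hcop : Nat.Coprime (orderOf n) (Nat.card K)) (f : G → ℂ)
    (hf : ∀ x z : G, f (z * x * z⁻¹) = f x) :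
    (Nat.card ↥(K ⊓ Subgroup.centralizer ({n} : Set G)) : ℂ) *
        ∑ k ∈ Finset.univ.filter (fun k => k ∈ K), f (k * n) =
      (Nat.card K : ℂ) * ∑ c ∈ Finset.univ.filter
        (fun c => c ∈ K ⊓ Subgroup.centralizer ({n} : Set G)), f (c * n) := by
  set C := K ⊓ Subgroup.centralizer ({n} : Set G) with hC
  set KS : Finset G := Finset.univ.filter (fun k => k ∈ K) with hKS
  set CS : Finset G := Finset.univ.filter (fun c => c ∈ C) with hCS
  have hKc : (KS.card : ℂ) = (Nat.card K : ℂ) := by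
    rw [hKS, ← Fintype.card_subtype, ← Nat.card_eq_fintype_card]
  have hCc : (CS.card : ℂ) = (Nat.card C : ℂ) := by
    rw [hCS, ← Fintype.card_subtype, ← Nat.card_eq_fintype_card]
  set π : G × G → G := fun p => p.1 * (p.2 * n) * p.1⁻¹ * n⁻¹ with hπdef
  have hπmem : ∀ x ∈ K, ∀ c ∈ C, π (x, c) ∈ K := by
    intro x hx c hc
    have h1 : n * x⁻¹ * n⁻¹ ∈ K := (Subgroup.mem_normalizer_iff.1 hn _).1 (K.inv_mem hx)
    have : π (x, c) = x * c * (n * x⁻¹ * n⁻¹) := by simp only [hπdef]; group
    rw [this]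
    exact K.mul_mem (K.mul_mem hx hc.1) h1
  obtain ⟨e, he1, he0⟩ := Nat.chineseRemainder hcop 1 0
  have hpow : ∀ c ∈ C, (c * n) ^ e = n := by
    intro c hc
    have hcn : Commute c n := Subgroup.mem_centralizer_singleton_iff.1 hc.2
    have e1 : n ^ e = n := by
      conv_rhs => rw [← pow_one n]
      exact pow_eq_pow_iff_modEq.2 he1
    have e2 : c ^ e = 1 := orderOf_dvd_iff_pow_eq_one.1
      ((Subgroup.orderOf_dvd_natCard _ hc.1).trans (Nat.modEq_zero_iff_dvd.1 he0))
    rw [hcn.mul_pow, e1, e2, one_mul]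
  calc (Nat.card C : ℂ) * ∑ k ∈ KS, f (k * n)
      = ∑ k ∈ KS, ∑ p ∈ (KS ×ˢ CS).filter (fun p => π p = k), f (p.2 * n) := by
        rw [Finset.mul_sum]
        refine Finset.sum_congr rfl fun k hk => ?_
        have hkK : k ∈ K := (Finset.mem_filter.1 hk).2
        obtain ⟨x₀, hx₀, c₀, hc₀, hcomm, hconj⟩ := Cfsg.Agent.S1496.result K n hn hcop k hkK
        have hc₀C : c₀ ∈ C := ⟨hc₀, Subgroup.mem_centralizer_singleton_iff.2 hcomm⟩
        have hval : ∀ p ∈ (KS ×ˢ CS).filter (fun p => π p = k), f (p.2 * n) = f (k * n) := by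
          intro p hp
          rw [← (Finset.mem_filter.1 hp).2, hπdef]
          simp only [inv_mul_cancel_right]
          exact (hf _ _).symm
        rw [Finset.sum_congr rfl hval, Finset.sum_const, nsmul_eq_mul, ← hCc]
        congr 2
        refine Finset.card_bij (fun y _ => (x₀⁻¹ * y, y⁻¹ * c₀ * y)) ?_ ?_ ?_
        · intro y hy
          have hyC : y ∈ C := (Finset.mem_filter.1 hy).2
          have hyn : Commute y n := Subgroup.mem_centralizer_singleton_iff.1 hyC.2
          simp only [Finset.mem_filter, Finset.mem_product, hKS, hCS, Finset.mem_univ, true_and]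
          refine ⟨⟨K.mul_mem (K.inv_mem hx₀) hyC.1,
            C.mul_mem (C.mul_mem (C.inv_mem hyC) hc₀C) hyC⟩, ?_⟩
          simp only [hπdef]
          calc x₀⁻¹ * y * (y⁻¹ * c₀ * y * n) * (x₀⁻¹ * y)⁻¹ * n⁻¹
              = x₀⁻¹ * (c₀ * (y * n * y⁻¹)) * x₀ * n⁻¹ := by group
            _ = x₀⁻¹ * (x₀ * (k * n) * x₀⁻¹) * x₀ * n⁻¹ := by
              rw [hconj, hyn.eq, mul_inv_cancel_right]
            _ = k := by group
        · intro y _ y' _ h
          exact mul_left_cancel (congrArg Prod.fst h)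
        · intro p hp
          simp only [Finset.mem_filter, Finset.mem_product, hKS, hCS, Finset.mem_univ, true_and] at hp
          obtain ⟨⟨hx, hc⟩, hpk⟩ := hp
          have h1 : x₀ * p.1 * (p.2 * n) * (x₀ * p.1)⁻¹ = c₀ * n := by
            rw [← hconj, ← hpk]
            simp only [hπdef]
            group
          have h2 := congrArg (· ^ e) h1
          simp only [conj_pow, hpow _ hc, hpow _ hc₀C] at h2
          have hy : Commute (x₀ * p.1) n := mul_inv_eq_iff_eq_mul.1 h2
          refine ⟨x₀ * p.1, Finset.mem_filter.2 ⟨Finset.mem_univ _, K.mul_mem hx₀ hx,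
            Subgroup.mem_centralizer_singleton_iff.2 hy.eq⟩, Prod.ext (by simp) ?_⟩
          have h3 : x₀ * p.1 * p.2 * (x₀ * p.1)⁻¹ = c₀ := by
            apply mul_right_cancel (b := n)
            rw [← h1]
            calc x₀ * p.1 * p.2 * (x₀ * p.1)⁻¹ * n
                = x₀ * p.1 * p.2 * ((x₀ * p.1)⁻¹ * n) := by group
              _ = x₀ * p.1 * p.2 * (n * (x₀ * p.1)⁻¹) := by rw [hy.inv_left.eq]
              _ = x₀ * p.1 * (p.2 * n) * (x₀ * p.1)⁻¹ := by group
          rw [← h3]
          group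
    _ = ∑ p ∈ KS ×ˢ CS, f (p.2 * n) := by
        refine Finset.sum_fiberwise_of_maps_to (fun p hp => ?_) _
        simp only [Finset.mem_product, hKS, hCS, Finset.mem_filter, Finset.mem_univ, true_and] at hp
        simp only [hKS, Finset.mem_filter, Finset.mem_univ, true_and]
        exact hπmem _ hp.1 _ hp.2
    _ = (Nat.card K : ℂ) * ∑ c ∈ CS, f (c * n) := by
        rw [Finset.sum_product]; dsimp only; rw [Finset.sum_const, nsmul_eq_mul, hKc]

end Cfsg.Agent.OddChar.Dade
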