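import Cfsg.Agent.OddChar.Dade.Sum
import Cfsg.Agent.OddChar.Dade.Coset
import Cfsg.Agent.OddChar.Induce

/-!
# The Dade map sends virtual characters to virtual characters

The image is an alternating sum, over the classes under `L` of nonempty subsets `B` of `A`, of
functions induced from `H(B) * N_L(B)`, where `H(B)` is the intersection of the `H b`, `b ∈ B`.
-/

namespace Cfsg.Agent.OddChar.Dade

open Cfsg.Agent.CharTheory.IndBasic (extendByZero_coe extendByZero_of_mem extendByZero_of_notMem)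
open scoped ComplexConjugate Pointwise

universe u

variable {G : Type u} [Group G]

/-- The conjugate of a finite set. -/
noncomputable def conjSet (l : G) (B : Finset G) : Finset G :=
  B.map (MulAut.conj l).toEquiv.toEmbedding

theorem mem_conjSet {l x : G} {B : Finset G} : x ∈ conjSet l B ↔ l⁻¹ * x * l ∈ B := by
  simp [conjSet, Finset.mem_map_equiv, MulAut.conj_symm_apply]

theorem conjSet_one (B : Finset G) : conjSet 1 B = B := by ext x; simp [mem_conjSet]

theorem conjSet_mul (l m : G) (B : Finset G) : conjSet (l * m) B = conjSet l (conjSet m B) := by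
  ext x; simp [mem_conjSet, mul_assoc]

theorem conjSet_inv_conjSet (l : G) (B : Finset G) : conjSet l⁻¹ (conjSet l B) = B := by
  rw [← conjSet_mul, inv_mul_cancel, conjSet_one]

theorem card_conjSet (l : G) (B : Finset G) : (conjSet l B).card = B.card := Finset.card_map _

/-- The intersection of the `H b`, `b ∈ B`. -/
def HB (H : G → Subgroup G) (B : Finset G) : Subgroup G := ⨅ b ∈ B, H b

theorem mem_HB {H : G → Subgroup G} {B : Finset G} {x : G} : x ∈ HB H B ↔ ∀ b ∈ B, x ∈ H b := by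
  simp [HB, Subgroup.mem_iInf]

/-- The stabiliser of `B` in `L`. -/
def NB (L : Subgroup G) (B : Finset G) : Subgroup G := L ⊓ Subgroup.normalizer (B : Set G)

theorem mem_normalizer_iff_conjSet {B : Finset G} {n : G} :
    n ∈ Subgroup.normalizer (B : Set G) ↔ conjSet n B = B := by
  rw [Subgroup.mem_normalizer_iff_conj_image_eq, ← Finset.coe_inj, conjSet, Finset.coe_map]
  rfl

theorem mem_NB {L : Subgroup G} {B : Finset G} {n : G} :
    n ∈ NB L B ↔ n ∈ L ∧ conjSet n B = B := by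
  rw [NB, Subgroup.mem_inf, mem_normalizer_iff_conjSet]

/-- The subgroup `H(B) * N_L(B)`. -/
def MB (L : Subgroup G) (H : G → Subgroup G) (B : Finset G) : Subgroup G := HB H B ⊔ NB L B

open Classical in
/-- `α` pulled back to `H(B) * N_L(B)`. -/
noncomputable def projFun (L : Subgroup G) (H : G → Subgroup G) (α : L → ℂ) (B : Finset G) :
    MB L H B → ℂ :=
  fun x => if h : ∃ n : L, (n : G) ∈ NB L B ∧ (x : G) * (n : G)⁻¹ ∈ HB H B then α h.choose else 0

/-- The induced function attached to `B`. -/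
noncomputable def T [Fintype G] (L : Subgroup G) (H : G → Subgroup G) (α : L → ℂ) (B : Finset G) :
    G → ℂ :=
  Cfsg.indFun (MB L H B) (projFun L H α B)

open Classical in
/-- Number of elements conjugating `g` to `z`. -/
noncomputable def hits [Fintype G] (g z : G) : ℂ :=
  ((Finset.univ.filter fun x : G => x * g * x⁻¹ = z).card : ℂ)

theorem hits_conj [Fintype G] (g x z : G) : hits g (z * x * z⁻¹) = hits g x := by
  classical
  unfold hits
  congr 1
  refine Finset.card_equiv (Equiv.mulLeft z⁻¹) fun y => ?_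
  simp only [Finset.mem_filter, Finset.mem_univ, true_and, Equiv.coe_mulLeft]
  constructor
  · intro h
    calc z⁻¹ * y * g * (z⁻¹ * y)⁻¹ = z⁻¹ * (y * g * y⁻¹) * z := by group
      _ = x := by rw [h]; group
  · intro h
    rw [← h]; group

open Classical in
/-- The averaged count over `H(D) * n`. -/
noncomputable def Phi [Fintype G] (H : G → Subgroup G) (D : Finset G) (n g : G) : ℂ :=
  (Nat.card (HB H D) : ℂ)⁻¹ * ∑ c ∈ Finset.univ.filter (fun c => c ∈ HB H D), hits g (c * n)

variable [Fintype G] {A : Set G} {L : Subgroup G} {H : G → Subgroup G}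
  (hD : Cfsg.DadeHypothesis A L H) {B : Finset G}

section Facts
include hD

theorem HB_conj (hBA : ∀ b ∈ B, b ∈ A) {l h : G} (hl : l ∈ L) (hh : h ∈ HB H B) :
    l * h * l⁻¹ ∈ HB H (conjSet l B) := by
  rw [mem_HB] at hh ⊢
  intro b hb
  rw [mem_conjSet] at hb
  have := conj_mem_HL hD (hBA _ hb) hl (hh _ hb)
  rwa [show l * (l⁻¹ * b * l) * l⁻¹ = b by group] at this

theorem conjSet_subset (hBA : ∀ b ∈ B, b ∈ A) {l : G} (hl : l ∈ L) :
    ∀ b ∈ conjSet l B, b ∈ A := fun b hb => by
  rw [mem_conjSet] at hb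
  simpa [mul_assoc] using hD.conj_mem l hl _ (hBA _ hb)

theorem NB_le_normalizer (hBA : ∀ b ∈ B, b ∈ A) :
    NB L B ≤ Subgroup.normalizer (HB H B : Set G) := by
  intro n hn
  obtain ⟨hnL, hfix⟩ := mem_NB.1 hn
  obtain ⟨-, hfix'⟩ := mem_NB.1 (inv_mem hn)
  rw [Subgroup.mem_normalizer_iff]
  refine fun h => ⟨fun hh => ?_, fun hh => ?_⟩
  · have := HB_conj hD hBA hnL hh
    rwa [hfix] at this
  · have := HB_conj hD hBA (L.inv_mem hnL) hh
    rw [hfix'] at this
    simpa [mul_assoc] using this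

theorem eq_one_of_mem_HB (hne : B.Nonempty) (hBA : ∀ b ∈ B, b ∈ A) {x : G} (hx : x ∈ HB H B)
    (hxL : x ∈ L) : x = 1 := by
  obtain ⟨b, hb⟩ := hne
  have hxb := mem_HB.1 hx b hb
  have : x ∈ H b ⊓ (L ⊓ Subgroup.centralizer ({b} : Set G)) :=
    ⟨hxb, hxL, hD.le_centralizer b (hBA b hb) hxb⟩
  rwa [hD.inf_eq_bot b (hBA b hb), Subgroup.mem_bot] at this

theorem mul_unique (hne : B.Nonempty) (hBA : ∀ b ∈ B, b ∈ A) {h h' n n' : G} (hh : h ∈ HB H B)
    (hh' : h' ∈ HB H B) (hn : n ∈ NB L B) (hn' : n' ∈ NB L B) (he : h * n = h' * n') :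
    h = h' ∧ n = n' := by
  have e : h'⁻¹ * h = n' * n⁻¹ := by
    rw [inv_mul_eq_iff_eq_mul, ← mul_assoc, ← he, mul_inv_cancel_right]
  have h1 := eq_one_of_mem_HB hD hne hBA (mul_mem (inv_mem hh') hh)
    (e ▸ L.mul_mem (mem_NB.1 hn').1 (L.inv_mem (mem_NB.1 hn).1))
  rw [inv_mul_eq_one] at h1
  subst h1
  exact ⟨rfl, mul_left_cancel he⟩

theorem mem_MB_iff (hBA : ∀ b ∈ B, b ∈ A) {x : G} :
    x ∈ MB L H B ↔ ∃ h ∈ HB H B, ∃ n ∈ NB L B, x = h * n := by
  rw [MB, ← SetLike.mem_coe,
    Subgroup.coe_mul_of_right_le_normalizer_left _ _ (NB_le_normalizer hD hBA), Set.mem_mul]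
  exact ⟨fun ⟨h, hh, n, hn, e⟩ => ⟨h, hh, n, hn, e.symm⟩,
    fun ⟨h, hh, n, hn, e⟩ => ⟨h, hh, n, hn, e.symm⟩⟩

theorem card_MB (hne : B.Nonempty) (hBA : ∀ b ∈ B, b ∈ A) :
    Nat.card (MB L H B) = Nat.card (HB H B) * Nat.card (NB L B) := by
  rw [← card_prod_set (HB H B) (NB L B),
    Nat.card_congr (Equiv.subtypeEquivRight fun x => (mem_MB_iff hD hBA (x := x)).symm)]
  have hbot : HB H B ⊓ NB L B = ⊥ :=
    (Subgroup.eq_bot_iff_forall _).2 fun x hx =>
      eq_one_of_mem_HB hD hne hBA hx.1 (mem_NB.1 hx.2).1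
  rw [hbot, Subgroup.card_bot, mul_one]

theorem projFun_eq (hne : B.Nonempty) (hBA : ∀ b ∈ B, b ∈ A) (α : L → ℂ) (x : MB L H B) (n : L)
    (hn : (n : G) ∈ NB L B) (hh : (x : G) * (n : G)⁻¹ ∈ HB H B) :
    projFun L H α B x = α n := by
  classical
  have hex : ∃ n : L, (n : G) ∈ NB L B ∧ (x : G) * (n : G)⁻¹ ∈ HB H B := ⟨n, hn, hh⟩
  rw [projFun, dif_pos hex]
  obtain ⟨hn', hh'⟩ := hex.choose_spec
  congr 1
  exact Subtype.ext (mul_unique hD hne hBA hh' hh hn' hn (by group)).2

theorem exists_proj (hne : B.Nonempty) (hBA : ∀ b ∈ B, b ∈ A) :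
    ∃ π : MB L H B →* L, ∀ α : L → ℂ, projFun L H α B = α ∘ π := by
  classical
  have hex : ∀ x : MB L H B, ∃ n : L, (n : G) ∈ NB L B ∧ (x : G) * (n : G)⁻¹ ∈ HB H B := by
    intro x
    obtain ⟨h, hh, n, hn, e⟩ := (mem_MB_iff hD hBA).1 x.2
    exact ⟨⟨n, (mem_NB.1 hn).1⟩, hn, by rw [e]; simpa using hh⟩
  choose p hp hp' using hex
  refine ⟨{ toFun := p, map_one' := ?_, map_mul' := ?_ }, fun α => funext fun x =>
    projFun_eq hD hne hBA α x (p x) (hp x) (hp' x)⟩
  · refine Subtype.ext (mul_unique hD hne hBA (hp' 1) (HB H B).one_mem (hp 1) (NB L B).one_mem ?_).2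
    simp
  · intro x y
    have hw : (x : G) * (p x : G)⁻¹ * ((p x : G) * ((y : G) * (p y : G)⁻¹) * (p x : G)⁻¹) ∈ HB H B :=
      mul_mem (hp' x) ((Subgroup.mem_normalizer_iff.1 (NB_le_normalizer hD hBA (hp x)) _).1 (hp' y))
    refine Subtype.ext (mul_unique hD hne hBA (hp' (x * y)) hw (hp (x * y))
      ((NB L B).mul_mem (hp x) (hp y)) ?_).2
    simp only [Subgroup.coe_mul]
    group

theorem isGen_T (hne : B.Nonempty) (hBA : ∀ b ∈ B, b ∈ A) {α : L → ℂ}
    (hα : Cfsg.IsGeneralizedCharacter L α) : Cfsg.IsGeneralizedCharacter G (T L H α B) := by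
  obtain ⟨π, hπ⟩ := exists_proj hD hne hBA
  refine Characters.isGen_indFun _ ?_
  rw [hπ]
  exact Characters.isGen_comp π hα

open Classical in
theorem T_eq (hne : B.Nonempty) (hBA : ∀ b ∈ B, b ∈ A) (α : L → ℂ) (g : G) :
    T L H α B g = ((Nat.card (HB H B) : ℂ) * (Nat.card (NB L B) : ℂ))⁻¹ *
      ∑ n ∈ Finset.univ.filter (fun n => n ∈ NB L B), Cfsg.extendByZero L α n *
        ∑ h ∈ Finset.univ.filter (fun h => h ∈ HB H B), hits g (h * n) := by
  rw [T, Cfsg.indFun, card_MB hD hne hBA, Nat.cast_mul]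
  congr 1
  have hext : ∀ y : G, Cfsg.extendByZero (MB L H B) (projFun L H α B) y =
      ∑ n ∈ Finset.univ.filter (fun n => n ∈ NB L B),
        ∑ h ∈ Finset.univ.filter (fun h => h ∈ HB H B),
          (if y = h * n then Cfsg.extendByZero L α n else 0) := by
    intro y
    by_cases hy : y ∈ MB L H B
    · obtain ⟨h, hh, n, hn, rfl⟩ := (mem_MB_iff hD hBA).1 hy
      rw [extendByZero_of_mem _ _ hy,
        projFun_eq hD hne hBA α ⟨h * n, hy⟩ ⟨n, (mem_NB.1 hn).1⟩ hn (by simpa using hh),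
        Finset.sum_eq_single n ?_ (fun h' => absurd (Finset.mem_filter.2 ⟨Finset.mem_univ _, hn⟩) h'),
        Finset.sum_eq_single h ?_ (fun h' => absurd (Finset.mem_filter.2 ⟨Finset.mem_univ _, hh⟩) h'),
        if_pos rfl, extendByZero_of_mem L α (mem_NB.1 hn).1]
      · exact fun b _ hb => if_neg fun e => hb (mul_right_cancel e).symm
      · intro b hb hbn
        refine Finset.sum_eq_zero fun c hc => if_neg fun e => hbn ?_
        exact (mul_unique hD hne hBA hh (Finset.mem_filter.1 hc).2 hn (Finset.mem_filter.1 hb).2 e).2.symm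
    · rw [extendByZero_of_notMem _ _ hy]
      refine (Finset.sum_eq_zero fun n hn => Finset.sum_eq_zero fun h hh => if_neg fun e => hy ?_).symm
      exact (mem_MB_iff hD hBA).2 ⟨h, (Finset.mem_filter.1 hh).2, n, (Finset.mem_filter.1 hn).2, e⟩
  simp only [hext]
  rw [Finset.sum_comm]
  refine Finset.sum_congr rfl fun n _ => ?_
  rw [Finset.sum_comm, Finset.mul_sum]
  refine Finset.sum_congr rfl fun h _ => ?_
  rw [← Finset.sum_filter, Finset.sum_const, nsmul_eq_mul, mul_comm, hits]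
  congr 2
  refine Finset.card_equiv (Equiv.inv G) fun x => ?_
  simp

theorem HB_inf_centralizer [DecidableEq G] (hne : B.Nonempty) (hBA : ∀ b ∈ B, b ∈ A) {n : G}
    (hn : n ∈ A) :
    HB H B ⊓ Subgroup.centralizer ({n} : Set G) = HB H (insert n B) := by
  classical
  have hins : ∀ x : G, x ∈ HB H (insert n B) ↔ x ∈ H n ∧ x ∈ HB H B := fun x => by
    simp [mem_HB]
  refine le_antisymm (fun w hw => (hins w).2 ⟨?_, hw.1⟩)
    fun w hw => ⟨((hins w).1 hw).2, hD.le_centralizer n hn ((hins w).1 hw).1⟩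
  obtain ⟨b, hb⟩ := hne
  have hwb : w ∈ H b := mem_HB.1 hw.1 b hb
  set S := L ⊓ Subgroup.centralizer ({n} : Set G) with hS
  set N' := (H n).subgroupOf (Subgroup.centralizer ({n} : Set G)) with hN'
  haveI : N'.Normal := ⟨fun x hx c => by
    rw [hN', Subgroup.mem_subgroupOf] at hx ⊢
    exact hD.conj_mem_H n hn c c.2 _ hx⟩
  have hle : S ≤ Subgroup.normalizer (H n : Set G) := by
    intro c hc
    rw [Subgroup.mem_normalizer_iff]
    exact fun w => ⟨hD.conj_mem_H n hn c hc.2 w, fun hw => by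
      simpa [mul_assoc] using hD.conj_mem_H n hn c⁻¹ (inv_mem hc.2) _ hw⟩
  have hw2 : w ∈ ((H n : Set G) * (S : Set G)) := by
    rw [← Subgroup.coe_mul_of_right_le_normalizer_left _ _ hle, hS, hD.sup_eq n hn]
    exact hw.2
  obtain ⟨u, hu, c, hc, hwuc⟩ := hw2
  set q := QuotientGroup.mk' N'
  have hcm : c ^ Nat.card S = 1 := congrArg Subtype.val (pow_card_eq_one' (x := (⟨c, hc⟩ : S)))
  have hwm : w ^ Nat.card S ∈ H n := by
    have hu' : (⟨u, hD.le_centralizer n hn hu⟩ : Subgroup.centralizer ({n} : Set G)) ∈ N' := hu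
    have h1 : q ⟨w, hw.2⟩ = q ⟨c, hc.2⟩ := by
      have he : (⟨w, hw.2⟩ : Subgroup.centralizer ({n} : Set G)) =
          ⟨u, hD.le_centralizer n hn hu⟩ * ⟨c, hc.2⟩ := Subtype.ext hwuc.symm
      rw [he, map_mul, show q ⟨u, hD.le_centralizer n hn hu⟩ = 1 from
        (QuotientGroup.eq_one_iff _).2 hu', one_mul]
    have h2 : q (⟨w, hw.2⟩ ^ Nat.card S) = 1 := by
      rw [map_pow, h1, ← map_pow, show (⟨c, hc.2⟩ : Subgroup.centralizer ({n} : Set G)) ^ Nat.card S
        = 1 from Subtype.ext hcm, map_one]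
    exact (QuotientGroup.eq_one_iff ((⟨w, hw.2⟩ : Subgroup.centralizer ({n} : Set G)) ^ Nat.card S)).1 h2
  obtain ⟨m, hm⟩ := exists_pow_eq_self_of_coprime (x := w) (n := Nat.card S)
    ((hD.coprime b (hBA b hb) n hn).symm.coprime_dvd_right (Subgroup.orderOf_dvd_natCard _ hwb))
  rw [← hm]
  exact pow_mem hwm m

open Classical in
theorem T_eq_Phi (hne : B.Nonempty) (hBA : ∀ b ∈ B, b ∈ A) {α : L → ℂ}
    (hαA : ∀ x : L, (x : G) ∉ A → α x = 0) (g : G) :
    (Nat.card (NB L B) : ℂ) * T L H α B g =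
      ∑ n ∈ Finset.univ.filter (fun n => n ∈ A),
        (if n ∈ NB L B then Cfsg.extendByZero L α n * Phi H (insert n B) n g else 0) := by
  have hzero : ∀ n : G, n ∉ A → Cfsg.extendByZero L α n = 0 := fun n hn => by
    by_cases hL : n ∈ L
    · rw [extendByZero_of_mem L α hL]; exact hαA _ hn
    · exact extendByZero_of_notMem L α hL
  have hN : (Nat.card (NB L B) : ℂ) ≠ 0 := Nat.cast_ne_zero.2 Nat.card_pos.ne'
  rw [T_eq hD hne hBA, mul_inv, ← mul_assoc, ← mul_assoc, mul_comm (Nat.card (NB L B) : ℂ),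
    mul_assoc ((Nat.card (HB H B) : ℂ)⁻¹), mul_inv_cancel₀ hN, mul_one, Finset.mul_sum]
  rw [← Finset.sum_subset (s₁ := Finset.univ.filter fun n => n ∈ A ∧ n ∈ NB L B)
    (fun n hn => Finset.mem_filter.2 ⟨Finset.mem_univ n, (Finset.mem_filter.1 hn).2.2⟩)
    (fun n hn hn' => by
      simp only [Finset.mem_filter, Finset.mem_univ, true_and] at hn hn'
      rw [hzero n fun h => hn' ⟨h, hn⟩, zero_mul, mul_zero]),
    ← Finset.sum_filter, Finset.filter_filter]
  refine Finset.sum_congr rfl fun n hn => ?_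
  obtain ⟨hnA, hnN⟩ := (Finset.mem_filter.1 hn).2
  obtain ⟨b, hb⟩ := hne
  have hcop : Nat.Coprime (orderOf n) (Nat.card (HB H B)) :=
    ((coprime_orderOf hD (hBA b hb) hnA).coprime_dvd_left
      (Subgroup.card_dvd_of_le (fun x hx => mem_HB.1 hx b hb))).symm
  have hC := sum_coset (HB H B) n (NB_le_normalizer hD hBA hnN) hcop (hits g)
    (fun x z => hits_conj g x z)
  rw [HB_inf_centralizer hD ⟨b, hb⟩ hBA hnA] at hC
  have h1 : (Nat.card (HB H B) : ℂ) ≠ 0 := Nat.cast_ne_zero.2 Nat.card_pos.ne'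
  have h2 : (Nat.card (HB H (insert n B)) : ℂ) ≠ 0 := Nat.cast_ne_zero.2 Nat.card_pos.ne'
  rw [Phi, mul_left_comm]
  congr 1
  rw [inv_mul_eq_iff_eq_mul₀ h1, mul_left_comm, eq_inv_mul_iff_mul_eq₀ h2]
  exact hC

open Classical in
theorem T_conjSet (hne : B.Nonempty) (hBA : ∀ b ∈ B, b ∈ A) {α : L → ℂ}
    (hα : Cfsg.IsClassFunction L α) {l : G} (hl : l ∈ L) :
    T L H α (conjSet l B) = T L H α B ∧ Nat.card (NB L (conjSet l B)) = Nat.card (NB L B) := by
  have hne' : (conjSet l B).Nonempty := hne.map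
  have hBA' := conjSet_subset hD hBA hl
  have hH : ∀ h : G, h ∈ HB H B ↔ l * h * l⁻¹ ∈ HB H (conjSet l B) := fun h =>
    ⟨HB_conj hD hBA hl, fun hh => by
      have := HB_conj hD hBA' (L.inv_mem hl) hh
      rw [conjSet_inv_conjSet] at this
      simpa [mul_assoc] using this⟩
  have hN : ∀ n : G, n ∈ NB L B ↔ l * n * l⁻¹ ∈ NB L (conjSet l B) := fun n => by
    rw [mem_NB, mem_NB, ← conjSet_mul, inv_mul_cancel_right]
    constructor
    · rintro ⟨hn, hfix⟩
      exact ⟨L.mul_mem (L.mul_mem hl hn) (L.inv_mem hl), by rw [conjSet_mul, hfix]⟩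
    · rintro ⟨hn, hfix⟩
      refine ⟨?_, ?_⟩
      · simpa [mul_assoc] using L.mul_mem (L.mul_mem (L.inv_mem hl) hn) hl
      · have := congrArg (conjSet l⁻¹) hfix
        rwa [conjSet_inv_conjSet, ← conjSet_mul, inv_mul_cancel_left] at this
  have hcH : Nat.card (HB H (conjSet l B)) = Nat.card (HB H B) :=
    (Nat.card_congr ((MulAut.conj l).toEquiv.subtypeEquiv hH)).symm
  have hcN : Nat.card (NB L (conjSet l B)) = Nat.card (NB L B) :=
    (Nat.card_congr ((MulAut.conj l).toEquiv.subtypeEquiv hN)).symm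
  refine ⟨funext fun g => ?_, hcN⟩
  rw [T_eq hD hne' hBA', T_eq hD hne hBA, hcH, hcN]
  congr 1
  refine (Finset.sum_equiv (MulAut.conj l).toEquiv (fun n => ?_) fun n hn => ?_).symm
  · simp only [Finset.mem_filter, Finset.mem_univ, true_and]; exact hN n
  · have hnL : n ∈ L := (mem_NB.1 (Finset.mem_filter.1 hn).2).1
    show _ = Cfsg.extendByZero L α (l * n * l⁻¹) *
      ∑ h ∈ _, hits g (h * (l * n * l⁻¹))
    congr 1
    · rw [extendByZero_of_mem L α hnL, extendByZero_of_mem L α (L.mul_mem (L.mul_mem hl hnL) (L.inv_mem hl))]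
      exact (hα ⟨n, hnL⟩ ⟨l, hl⟩).symm
    · refine Finset.sum_equiv (MulAut.conj l).toEquiv (fun h => ?_) fun h _ => ?_
      · simp only [Finset.mem_filter, Finset.mem_univ, true_and]; exact hH h
      · show hits g (h * n) = hits g (l * h * l⁻¹ * (l * n * l⁻¹))
        rw [show l * h * l⁻¹ * (l * n * l⁻¹) = l * (h * n) * l⁻¹ by group, hits_conj]

end Facts

open Classical in
include hD in
/-- The Dade map as an alternating sum. -/
theorem dade_eq_alternating {α : L → ℂ} (hα : Cfsg.IsClassFunction L α)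
    (hαA : ∀ x : L, (x : G) ∉ A → α x = 0) :
    Cfsg.dadeIsometry A L H α =
      ∑ B ∈ (Finset.univ.filter fun a => a ∈ A).powerset.erase ∅,
        ((-1 : ℂ) ^ (B.card + 1) * ((Nat.card (NB L B) : ℂ) / (Nat.card L : ℂ))) • T L H α B := by
  funext g
  set AF := Finset.univ.filter fun a => a ∈ A with hAF
  set S := AF.powerset.erase ∅ with hS
  have hmem : ∀ B ∈ S, B.Nonempty ∧ ∀ b ∈ B, b ∈ A := fun B hB => by
    obtain ⟨h1, h2⟩ := Finset.mem_erase.1 hB
    exact ⟨Finset.nonempty_iff_ne_empty.2 h1, fun b hb =>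
      (Finset.mem_filter.1 (Finset.mem_powerset.1 h2 hb)).2⟩
  have hcancel : ∀ n ∈ AF, ∑ B ∈ S,
      (-1 : ℂ) ^ (B.card + 1) * (if n ∈ NB L B then Phi H (insert n B) n g else 0) =
        Phi H {n} n g := by
    intro n hn
    set s := fun B : Finset G =>
      (-1 : ℂ) ^ (B.card + 1) * (if n ∈ NB L B then Phi H (insert n B) n g else 0) with hs
    have hnL : n ∈ L := hD.subset (Finset.mem_filter.1 hn).2
    have hall : ∑ B ∈ AF.powerset, s B = 0 := by
      rw [← Finset.insert_erase hn, Finset.sum_powerset_insert (Finset.notMem_erase n AF),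
        ← Finset.sum_add_distrib]
      refine Finset.sum_eq_zero fun B hB => ?_
      have hnB : n ∉ B := fun h => Finset.notMem_erase n AF (Finset.mem_powerset.1 hB h)
      have hiff : n ∈ NB L (insert n B) ↔ n ∈ NB L B := by
        rw [mem_NB, mem_NB]
        refine and_congr_right fun _ => ?_
        have hconj : conjSet n (insert n B) = insert n (conjSet n B) := by
          ext x
          simp only [mem_conjSet, Finset.mem_insert]
          refine or_congr ?_ Iff.rfl
          exact ⟨fun h => by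
            calc x = n * (n⁻¹ * x * n) * n⁻¹ := by group
              _ = n := by rw [h]; group, fun h => by rw [h]; group⟩
        rw [hconj]
        refine ⟨fun h => ?_, fun h => by rw [h]⟩
        have hnC : n ∉ conjSet n B := by rw [mem_conjSet]; simpa using hnB
        rw [← Finset.erase_insert hnC, h, Finset.erase_insert hnB]
      simp only [hs]
      rw [Finset.card_insert_of_notMem hnB, if_congr hiff rfl rfl, Finset.insert_idem, pow_succ]
      ring
    rw [← Finset.insert_erase (Finset.empty_mem_powerset AF), Finset.sum_insert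
      (Finset.notMem_erase _ _)] at hall
    have hemp : s ∅ = -Phi H {n} n g := by
      simp only [hs, Finset.card_empty, zero_add, pow_one, insert_empty_eq]
      rw [if_pos (mem_NB.2 ⟨hnL, by ext x; simp [mem_conjSet]⟩), neg_one_mul]
    rw [hemp] at hall
    rw [hS]
    linear_combination hall
  have hL : (Nat.card L : ℂ) ≠ 0 := Nat.cast_ne_zero.2 Nat.card_pos.ne'
  rw [Finset.sum_apply]
  simp only [Pi.smul_apply, smul_eq_mul]
  calc Cfsg.dadeIsometry A L H α g
      = (Nat.card L : ℂ)⁻¹ * ∑ n ∈ AF, Cfsg.extendByZero L α n * Phi H {n} n g := by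
        rw [eq_inv_mul_iff_mul_eq₀ hL]
        have h1 : ∀ n ∈ AF, Cfsg.extendByZero L α n * Phi H {n} n g = ∑ c ∈ Finset.univ.filter
            (fun c => c ∈ H n), ∑ x : G, (if x * g * x⁻¹ = n * c then
              (Nat.card (H n) : ℂ)⁻¹ else 0) * Cfsg.dadeIsometry A L H α g := by
          intro n hn
          have hnA : n ∈ A := (Finset.mem_filter.1 hn).2
          have hHB : HB H {n} = H n := by ext x; simp [mem_HB]
          rw [Phi, hHB, Finset.mul_sum, Finset.mul_sum]
          refine Finset.sum_congr rfl fun c hc => ?_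
          have hc' : c ∈ H n := (Finset.mem_filter.1 hc).2
          rw [← Finset.sum_mul, ← Finset.sum_filter, Finset.sum_const, nsmul_eq_mul, hits,
            (comm hD hnA hc').eq]
          rcases Finset.eq_empty_or_nonempty (Finset.univ.filter fun x : G => x * g * x⁻¹ = c * n)
            with h | ⟨x, hx⟩
          · rw [h, Finset.card_empty]
            simp
          · rw [extendByZero_of_mem L α (hD.subset hnA), apply_eq hD hα hnA hc'
              ((Finset.mem_filter.1 hx).2.trans (comm hD hnA hc').eq.symm)]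
            ring
        rw [Finset.sum_congr rfl h1]
        simp only [← Finset.sum_mul]
        have h2 : ∑ n ∈ AF, ∑ c ∈ Finset.univ.filter (fun c => c ∈ H n), ∑ x : G,
            (if x * g * x⁻¹ = n * c then (Nat.card (H n) : ℂ)⁻¹ else 0) =
            if g ∈ support A H then (Nat.card L : ℂ) else 0 := by
          rw [← sum_fibre hD g, Finset.sum_sigma' AF]
          refine Finset.sum_bij' (fun s _ => (s.1, s.2)) (fun p _ => ⟨p.1, p.2⟩) ?_ ?_ ?_ ?_ ?_ <;>
            simp [mem_pairs, hAF]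
        rw [h2]
        split_ifs with h
        · rfl
        · rw [apply_eq_zero_of_notMem h, mul_zero, zero_mul]
    _ = (Nat.card L : ℂ)⁻¹ * ∑ n ∈ AF, ∑ B ∈ S, (-1 : ℂ) ^ (B.card + 1) *
          (if n ∈ NB L B then Cfsg.extendByZero L α n * Phi H (insert n B) n g else 0) := by
        congr 1
        refine Finset.sum_congr rfl fun n hn => ?_
        rw [← hcancel n hn, Finset.mul_sum]
        refine Finset.sum_congr rfl fun B _ => ?_
        split_ifs <;> ring
    _ = _ := by
        rw [Finset.sum_comm, Finset.mul_sum]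
        refine Finset.sum_congr rfl fun B hB => ?_
        rw [← Finset.mul_sum, ← T_eq_Phi hD (hmem B hB).1 (hmem B hB).2 hαA g]
        ring

open Classical in
include hD in
theorem isGen {α : L → ℂ} (hα : Cfsg.IsGeneralizedCharacter L α)
    (hαA : ∀ x : L, (x : G) ∉ A → α x = 0) :
    Cfsg.IsGeneralizedCharacter G (Cfsg.dadeIsometry A L H α) := by
  haveI : Finite L := inferInstance
  have hcl := Characters.isGen_isClassFunction hα
  rw [dade_eq_alternating hD hcl hαA]
  set AF := Finset.univ.filter fun a => a ∈ A with hAF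
  set S := AF.powerset.erase ∅ with hS
  have hmem : ∀ B ∈ S, B.Nonempty ∧ ∀ b ∈ B, b ∈ A := fun B hB => by
    obtain ⟨h1, h2⟩ := Finset.mem_erase.1 hB
    exact ⟨Finset.nonempty_iff_ne_empty.2 h1, fun b hb =>
      (Finset.mem_filter.1 (Finset.mem_powerset.1 h2 hb)).2⟩
  set LF := Finset.univ.filter fun l => l ∈ L with hLF
  set orb : Finset G → Finset (Finset G) := fun B => LF.image fun l => conjSet l B with horb
  rw [← Finset.sum_fiberwise_of_maps_to (t := S.image orb) (g := orb)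
    (fun B hB => Finset.mem_image_of_mem _ hB)]
  refine Characters.isGen_sum _ _ fun O hO => ?_
  obtain ⟨B, hB, rfl⟩ := Finset.mem_image.1 hO
  have hfib : S.filter (fun C => orb C = orb B) = orb B := by
    ext C
    simp only [Finset.mem_filter]
    constructor
    · rintro ⟨-, he⟩
      rw [← he]
      exact Finset.mem_image.2 ⟨1, Finset.mem_filter.2 ⟨Finset.mem_univ _, L.one_mem⟩, conjSet_one C⟩
    · intro hC
      obtain ⟨l, hl, rfl⟩ := Finset.mem_image.1 hC
      have hlL : l ∈ L := (Finset.mem_filter.1 hl).2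
      refine ⟨?_, ?_⟩
      · refine Finset.mem_erase.2 ⟨((hmem B hB).1.map).ne_empty, Finset.mem_powerset.2 fun x hx => ?_⟩
        exact Finset.mem_filter.2 ⟨Finset.mem_univ _, conjSet_subset hD (hmem B hB).2 hlL x hx⟩
      · ext D
        simp only [horb, Finset.mem_image, hLF, Finset.mem_filter, Finset.mem_univ, true_and]
        constructor
        · rintro ⟨m, hm, rfl⟩
          exact ⟨m * l, L.mul_mem hm hlL, conjSet_mul m l B⟩
        · rintro ⟨m, hm, rfl⟩
          exact ⟨m * l⁻¹, L.mul_mem hm (L.inv_mem hlL), by rw [← conjSet_mul, inv_mul_cancel_right]⟩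
  rw [hfib]
  have hconst : ∀ C ∈ orb B,
      ((-1 : ℂ) ^ (C.card + 1) * ((Nat.card (NB L C) : ℂ) / (Nat.card L : ℂ))) • T L H α C =
        ((-1 : ℂ) ^ (B.card + 1) * ((Nat.card (NB L B) : ℂ) / (Nat.card L : ℂ))) • T L H α B := by
    intro C hC
    obtain ⟨l, hl, rfl⟩ := Finset.mem_image.1 hC
    obtain ⟨h1, h2⟩ := T_conjSet hD (hmem B hB).1 (hmem B hB).2 hcl (Finset.mem_filter.1 hl).2
    rw [h1, h2, card_conjSet]
  have hcount : (orb B).card * Nat.card (NB L B) = Nat.card L := by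
    have h1 : LF.card = Nat.card L := by
      rw [hLF, ← Fintype.card_subtype, ← Nat.card_eq_fintype_card]
    rw [← h1, Finset.card_eq_sum_card_image (fun l => conjSet l B) LF, Finset.sum_const_nat]
    intro C hC
    obtain ⟨l, hl, rfl⟩ := Finset.mem_image.1 hC
    have hlL : l ∈ L := (Finset.mem_filter.1 hl).2
    rw [Nat.card_eq_fintype_card, Fintype.card_subtype]
    refine Finset.card_equiv (Equiv.mulLeft l⁻¹) fun m => ?_
    simp only [Finset.mem_filter, Finset.mem_univ, true_and, hLF, Equiv.coe_mulLeft, mem_NB]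
    constructor
    · rintro ⟨hm, he⟩
      exact ⟨L.mul_mem (L.inv_mem hlL) hm, by rw [conjSet_mul, he, conjSet_inv_conjSet]⟩
    · rintro ⟨hm, he⟩
      refine ⟨by simpa using L.mul_mem hlL hm, ?_⟩
      conv_rhs => rw [← he, ← conjSet_mul, mul_inv_cancel_left]
  have hscal : ((orb B).card : ℂ) *
      ((-1 : ℂ) ^ (B.card + 1) * ((Nat.card (NB L B) : ℂ) / (Nat.card L : ℂ))) =
        (-1 : ℂ) ^ (B.card + 1) := by
    rw [← hcount, Nat.cast_mul]
    have h1 : ((orb B).card : ℂ) ≠ 0 := Nat.cast_ne_zero.2 (Finset.card_ne_zero_of_mem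
      (a := B) (Finset.mem_image.2 ⟨1, Finset.mem_filter.2 ⟨Finset.mem_univ _, L.one_mem⟩, conjSet_one B⟩))
    have h2 : (Nat.card (NB L B) : ℂ) ≠ 0 := Nat.cast_ne_zero.2 Nat.card_pos.ne'
    field_simp
  rw [Finset.sum_congr rfl hconst, Finset.sum_const, ← Nat.cast_smul_eq_nsmul ℂ, smul_smul, hscal]
  have hg := isGen_T hD (hmem B hB).1 (hmem B hB).2 hα
  rcases neg_one_pow_eq_or ℂ (B.card + 1) with h | h <;> rw [h]
  · rwa [one_smul]
  · rw [neg_one_smul]; exact Characters.isGen_neg hg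

end Cfsg.Agent.OddChar.Dade
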