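import Cfsg.Prelude.Def_OddOrderChar
import Cfsg.Agent.Lib.Characters.Induction
import Cfsg.Agent.S1498
import Mathlib

/-!
# The Dade set-up: elementary facts, well-definedness of the Dade map
-/

namespace Cfsg.Agent.OddChar.Dade

open scoped ComplexConjugate

universe u

variable {G : Type u} [Group G]

/-- Product formula for the set of products of two subgroups. -/
theorem card_prod_set [Finite G] (A B : Subgroup G) :
    Nat.card {y : G // ∃ a ∈ A, ∃ b ∈ B, y = a * b} * Nat.card ↥(A ⊓ B) =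
      Nat.card A * Nat.card B := by
  classical
  haveI := Fintype.ofFinite G
  rw [← Nat.card_prod, ← Nat.card_prod A B]
  refine Nat.card_congr (Equiv.ofBijective (fun p => (⟨p.1.2.choose * p.2, A.mul_mem
    p.1.2.choose_spec.1 p.2.2.1⟩, ⟨(p.2 : G)⁻¹ * p.1.2.choose_spec.2.choose,
    B.mul_mem (B.inv_mem p.2.2.2) p.1.2.choose_spec.2.choose_spec.1⟩)) ⟨?_, ?_⟩)
  · rintro ⟨⟨y, hy⟩, c⟩ ⟨⟨y', hy'⟩, c'⟩ h
    simp only [Prod.mk.injEq, Subtype.mk.injEq] at h
    have hmul := congr_arg₂ (· * ·) h.1 h.2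
    have e : y = y' := by
      simpa [mul_assoc, ← hy.choose_spec.2.choose_spec.2, ← hy'.choose_spec.2.choose_spec.2]
        using hmul
    subst e
    simp only [mul_right_inj, SetLike.coe_eq_coe] at h
    rw [h.1]
  · rintro ⟨a, b⟩
    have hy : ∃ a' ∈ A, ∃ b' ∈ B, (a : G) * b = a' * b' := ⟨a, a.2, b, b.2, rfl⟩
    have ha' := hy.choose_spec.1
    have hb' := hy.choose_spec.2.choose_spec.1
    have he := hy.choose_spec.2.choose_spec.2
    have hmemB : hy.choose⁻¹ * (a : G) ∈ B := by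
      have : hy.choose⁻¹ * (a : G) = hy.choose_spec.2.choose * (b : G)⁻¹ := by
        rw [inv_mul_eq_iff_eq_mul, ← mul_assoc, ← he, mul_inv_cancel_right]
      rw [this]
      exact B.mul_mem hb' (B.inv_mem b.2)
    refine ⟨(⟨_, hy⟩, ⟨_, A.mul_mem (A.inv_mem ha') a.2, hmemB⟩), ?_⟩
    simp only [Prod.mk.injEq]
    refine ⟨Subtype.ext (mul_inv_cancel_left _ _), Subtype.ext ?_⟩
    show (hy.choose⁻¹ * (a : G))⁻¹ * hy.choose_spec.2.choose = b
    rw [mul_inv_rev, inv_inv, mul_assoc, ← he, inv_mul_cancel_left]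

variable [Finite G] {A : Set G} {L : Subgroup G} {H : G → Subgroup G}
  (hD : Cfsg.DadeHypothesis A L H)

section
include hD

theorem comm {a u : G} (ha : a ∈ A) (hu : u ∈ H a) : Commute a u :=
  (Subgroup.mem_centralizer_singleton_iff.1 (hD.le_centralizer a ha hu)).symm

theorem mem_centL {a : G} (ha : a ∈ A) : a ∈ L ⊓ Subgroup.centralizer ({a} : Set G) :=
  ⟨hD.subset ha, Subgroup.mem_centralizer_singleton_iff.2 rfl⟩

theorem coprime_orderOf {a b : G} (ha : a ∈ A) (hb : b ∈ A) :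
    Nat.Coprime (Nat.card (H a)) (orderOf b) :=
  (hD.coprime a ha b hb).coprime_dvd_right (Subgroup.orderOf_dvd_natCard _ (mem_centL hD hb))

/-- `a` and `b` are the same power of `a * u` and `b * v`. -/
theorem exists_pow {a b : G} (ha : a ∈ A) (hb : b ∈ A) :
    ∃ k : ℕ, ∀ u ∈ H a, ∀ v ∈ H b, (a * u) ^ k = a ∧ (b * v) ^ k = b := by
  have hcop : Nat.Coprime (orderOf a * orderOf b) (Nat.card (H a) * Nat.card (H b)) :=
    Nat.Coprime.mul_right
      (Nat.Coprime.mul_left (coprime_orderOf hD ha ha).symm (coprime_orderOf hD ha hb).symm)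
      (Nat.Coprime.mul_left (coprime_orderOf hD hb ha).symm (coprime_orderOf hD hb hb).symm)
  obtain ⟨k, hk1, hk2⟩ := Nat.chineseRemainder hcop 1 0
  refine ⟨k, fun u hu v hv => ?_⟩
  have aux : ∀ {c w : G}, c ∈ A → w ∈ H c → orderOf c ∣ orderOf a * orderOf b →
      Nat.card (H c) ∣ Nat.card (H a) * Nat.card (H b) → (c * w) ^ k = c := by
    intro c w hc hw h1 h2
    have e1 : c ^ k = c := by
      conv_rhs => rw [← pow_one c]
      exact pow_eq_pow_iff_modEq.2 (hk1.of_dvd h1)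
    have e2 : w ^ k = 1 := orderOf_dvd_iff_pow_eq_one.1
      ((Subgroup.orderOf_dvd_natCard _ hw).trans (h2.trans (Nat.modEq_zero_iff_dvd.1 hk2)))
    rw [(comm hD hc hw).mul_pow, e1, e2, mul_one]
  exact ⟨aux ha hu (dvd_mul_right _ _) (dvd_mul_right _ _),
    aux hb hv (dvd_mul_left _ _) (dvd_mul_left _ _)⟩

/-- Conjugation between the cosets sends `a` to `b` and `H a` to `H b`. -/
theorem conj_eq {a b u v g : G} (ha : a ∈ A) (hb : b ∈ A) (hu : u ∈ H a) (hv : v ∈ H b)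
    (h : g * (a * u) * g⁻¹ = b * v) : g * a * g⁻¹ = b ∧ g * u * g⁻¹ = v := by
  obtain ⟨k, hk⟩ := exists_pow hD ha hb
  have h1 := congrArg (· ^ k) h
  simp only [conj_pow, (hk u hu v hv).1, (hk u hu v hv).2] at h1
  refine ⟨h1, ?_⟩
  have h2 : g * a * g⁻¹ * (g * u * g⁻¹) = b * v := by rw [← h]; group
  rw [h1] at h2
  exact mul_left_cancel h2

theorem exists_fusion {a b g : G} (ha : a ∈ A) (hb : b ∈ A) (h : g * a * g⁻¹ = b) :
    ∃ x ∈ L, x * a * x⁻¹ = b := by
  obtain ⟨x, hx, he⟩ := hD.fusion a ha g (by rw [h]; exact hb)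
  exact ⟨x, hx, he.trans h⟩

theorem conj_mem_HL {a x u : G} (ha : a ∈ A) (hx : x ∈ L) (hu : u ∈ H a) :
    x * u * x⁻¹ ∈ H (x * a * x⁻¹) := by
  rw [Cfsg.Agent.S1498.result A L H hD a ha x hx]
  exact ⟨u, hu, by simp⟩

/-- Elements carrying `a` into `A` are `L * C(a)`. -/
theorem exists_factor {a y : G} (ha : a ∈ A) (hy : y * a * y⁻¹ ∈ A) :
    ∃ l ∈ L, ∃ c ∈ Subgroup.centralizer ({a} : Set G), y = l * c := by
  obtain ⟨x, hx, he⟩ := hD.fusion a ha y hy
  refine ⟨x, hx, x⁻¹ * y, ?_, by group⟩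
  rw [Subgroup.mem_centralizer_singleton_iff]
  calc x⁻¹ * y * a = x⁻¹ * (y * a * y⁻¹) * y := by group
    _ = x⁻¹ * (x * a * x⁻¹) * y := by rw [he]
    _ = a * (x⁻¹ * y) := by group

theorem conj_mem_H {a y u : G} (ha : a ∈ A) (hy : y * a * y⁻¹ ∈ A) (hu : u ∈ H a) :
    y * u * y⁻¹ ∈ H (y * a * y⁻¹) := by
  obtain ⟨l, hl, c, hc, rfl⟩ := exists_factor hD ha hy
  have hca : c * a * c⁻¹ = a := by
    rw [Subgroup.mem_centralizer_singleton_iff.1 hc, mul_inv_cancel_right]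
  have h := conj_mem_HL hD ha hl (hD.conj_mem_H a ha c hc u hu)
  have e1 : l * c * a * (l * c)⁻¹ = l * a * l⁻¹ := by
    conv_rhs => rw [← hca]
    group
  have e2 : l * c * u * (l * c)⁻¹ = l * (c * u * c⁻¹) * l⁻¹ := by group
  rw [e1, e2]
  exact h

/-- Number of elements carrying `a` into `A`. -/
theorem card_conjugators {a : G} (ha : a ∈ A) :
    Nat.card {y : G // y * a * y⁻¹ ∈ A} = Nat.card L * Nat.card (H a) := by
  have hiff : ∀ y : G, y * a * y⁻¹ ∈ A ↔
      ∃ l ∈ L, ∃ c ∈ Subgroup.centralizer ({a} : Set G), y = l * c := by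
    refine fun y => ⟨exists_factor hD ha, ?_⟩
    rintro ⟨l, hl, c, hc, rfl⟩
    have e : l * c * a * (l * c)⁻¹ = l * a * l⁻¹ := by
      rw [mul_assoc l c a, Subgroup.mem_centralizer_singleton_iff.1 hc]; group
    rw [e]
    exact hD.conj_mem l hl a ha
  rw [Nat.card_congr (Equiv.subtypeEquivRight hiff)]
  have h1 := card_prod_set L (Subgroup.centralizer ({a} : Set G))
  have h2 := card_prod_set (H a) (L ⊓ Subgroup.centralizer ({a} : Set G))
  have hle : L ⊓ Subgroup.centralizer ({a} : Set G) ≤ Subgroup.normalizer (H a : Set G) := by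
    intro c hc
    rw [Subgroup.mem_normalizer_iff]
    exact fun w => ⟨hD.conj_mem_H a ha c hc.2 w, fun hw => by
      simpa [mul_assoc] using hD.conj_mem_H a ha c⁻¹ (inv_mem hc.2) _ hw⟩
  have h3 : ∀ y : G, (∃ u ∈ H a, ∃ c ∈ L ⊓ Subgroup.centralizer ({a} : Set G), y = u * c) ↔
      y ∈ Subgroup.centralizer ({a} : Set G) := fun y => by
    constructor
    · rintro ⟨u, hu, c, hc, rfl⟩
      exact mul_mem (hD.le_centralizer a ha hu) hc.2
    · intro hy
      rw [← hD.sup_eq a ha, ← SetLike.mem_coe,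
        Subgroup.coe_mul_of_right_le_normalizer_left (H a) _ hle] at hy
      obtain ⟨u, hu, c, hc, e⟩ := hy
      exact ⟨u, hu, c, hc, e.symm⟩
  rw [Nat.card_congr (Equiv.subtypeEquivRight h3), hD.inf_eq_bot a ha, Subgroup.card_bot,
    mul_one] at h2
  have h4 : Nat.card {y : G // y ∈ Subgroup.centralizer ({a} : Set G)} =
      Nat.card ↥(Subgroup.centralizer ({a} : Set G)) := rfl
  rw [h4] at h2
  rw [h2, ← mul_assoc] at h1
  exact mul_right_cancel₀ Nat.card_pos.ne' h1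

theorem card_H_conj {a y : G} (ha : a ∈ A) (hy : y * a * y⁻¹ ∈ A) :
    Nat.card (H (y * a * y⁻¹)) = Nat.card (H a) := by
  obtain ⟨x, hx, he⟩ := hD.fusion a ha y hy
  rw [← he, Cfsg.Agent.S1498.result A L H hD a ha x hx]
  exact Nat.card_congr (((H a).equivMapOfInjective _ (MulAut.conj x).injective).symm.toEquiv)

/-- The Dade map at a conjugate of an element of `a * H a`. -/
theorem apply_eq {α : L → ℂ} (hα : Cfsg.IsClassFunction L α) {a u x g : G} (ha : a ∈ A)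
    (hu : u ∈ H a) (h : x * g * x⁻¹ = a * u) :
    Cfsg.dadeIsometry A L H α g = α ⟨a, hD.subset ha⟩ := by
  classical
  have hex : ∃ b : L, (b : G) ∈ A ∧ ∃ y : G, ∃ v ∈ H (b : G), y * g * y⁻¹ = (b : G) * v :=
    ⟨⟨a, hD.subset ha⟩, ha, x, u, hu, h⟩
  unfold Cfsg.dadeIsometry
  rw [dif_pos hex]
  obtain ⟨hb, y, v, hv, hy⟩ := Classical.choose_spec hex
  have hc : y * x⁻¹ * (a * u) * (y * x⁻¹)⁻¹ = ((Classical.choose hex : L) : G) * v := by
    rw [← h, ← hy]; group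
  obtain ⟨l, hl, hle⟩ := exists_fusion hD ha hb (conj_eq hD ha hb hu hv hc).1
  have : (⟨l, hl⟩ : L) * ⟨a, hD.subset ha⟩ * ⟨l, hl⟩⁻¹ = Classical.choose hex :=
    Subtype.ext hle
  rw [← this]
  exact hα _ _

end

omit [Finite G] in
theorem apply_eq_zero {α : L → ℂ} {g : G}
    (h : ∀ a ∈ A, ∀ x : G, ∀ u ∈ H a, x * g * x⁻¹ ≠ a * u) :
    Cfsg.dadeIsometry A L H α g = 0 := by
  unfold Cfsg.dadeIsometry
  exact dif_neg fun ⟨a, ha, x, u, hu, e⟩ => h a ha x u hu e

include hD in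
theorem isClassFunction {α : L → ℂ} (hα : Cfsg.IsClassFunction L α) :
    Cfsg.IsClassFunction G (Cfsg.dadeIsometry A L H α) := by
  intro g z
  by_cases h : ∃ a ∈ A, ∃ x : G, ∃ u ∈ H a, x * g * x⁻¹ = a * u
  · obtain ⟨a, ha, x, u, hu, e⟩ := h
    rw [apply_eq hD hα ha hu e]
    refine apply_eq hD hα (x := x * z⁻¹) ha hu ?_
    rw [← e]; group
  · push Not at h
    rw [apply_eq_zero (α := α) h]
    refine apply_eq_zero fun a ha x u hu e => h a ha (x * z) u hu ?_
    rw [← e]; group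

end Cfsg.Agent.OddChar.Dade
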